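import Groth.Agent.PicBnd.AlgLim
import Groth.Agent.PicClLib.Basic
import Groth.Prelude.Def_Pic13
import Groth.Agent.S4788
import Groth.Agent.QCoh.LocFree
import Groth.Agent.PicRep.Good

/-! Descent of an invertible family over an affine base to a coherent family over a base of finite type. -/

set_option linter.style.haveILetI false
set_option backward.isDefEq.respectTransparency false
set_option backward.isDefEq.respectTransparency.types false

universe u

open CategoryTheory CategoryTheory.Limits AlgebraicGeometry Opposite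

namespace Groth.Agent.PicBnd

variable {k : Type u} [Field k] {X : Scheme.{u}} [X.Over (Spec (CommRingCat.of k))]
  [IsProper (X ↘ Spec (CommRingCat.of k))]

theorem exists_coh_family {V : Scheme.{u}} [IsAffine V] (qV : V ⟶ Spec (CommRingCat.of k))
    (M : (Pic13.prodK k X qV).Modules) (hM : PicF.IsInvertible M) :
    ∃ (T : Scheme.{u}) (q : T ⟶ Spec (CommRingCat.of k)) (F : (Pic13.prodK k X q).Modules)
      (g : Over.mk qV ⟶ Over.mk q), LocallyOfFiniteType q ∧ QuasiCompact q ∧ Coh.IsCoh F ∧
      PicF.pullCl (PicF.XTmap (X ↘ Spec (CommRingCat.of k)) g) (PicF.cl F) = PicF.cl M := by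
  classical
  let str := X ↘ Spec (CommRingCat.of k)
  let A : Type u := Γ(V, ⊤)
  let b := Spec.preimage (V.isoSpec.inv ≫ qV)
  letI : Algebra k A := b.hom.toAlgebra
  have halg : Spec.map (CommRingCat.ofHom (algebraMap k A)) = V.isoSpec.inv ≫ qV := Spec.map_preimage _
  haveI : CompactSpace X := QuasiCompact.compactSpace_of_compactSpace str
  haveI : QuasiSeparatedSpace X := quasiSeparatedSpace_of_quasiSeparated str
  let hh : pullback str (Spec.map (CommRingCat.ofHom (algebraMap k A))) ⟶ pullback str qV :=
    pullback.map str _ str qV (𝟙 X) V.isoSpec.inv (𝟙 _) (by simp) (by rw [Category.comp_id, halg])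
  let hh' : pullback str qV ⟶ pullback str (Spec.map (CommRingCat.ofHom (algebraMap k A))) :=
    pullback.map str qV str _ (𝟙 X) V.isoSpec.hom (𝟙 _) (by simp) (by rw [Category.comp_id, halg, Iso.hom_inv_id_assoc])
  have hinv : hh' ≫ hh = 𝟙 _ := by
    apply pullback.hom_ext
    · rw [Category.assoc, pullback.lift_fst, Category.comp_id, pullback.lift_fst, Category.comp_id, Category.id_comp]
    · rw [Category.assoc, pullback.lift_snd, ← Category.assoc, pullback.lift_snd, Category.assoc, Iso.hom_inv_id,
        Category.comp_id, Category.id_comp]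
  let MA := (Scheme.Modules.pullback hh).obj M
  have hMA : PicF.IsInvertible MA := PicClLib.isInvertible_pullback hh hM
  have hfp : CohB1.IsFP MA := PicRep.isFP_of_isInvertible hMA
  haveI : Coh.IsQCoh MA := QCoh.isQCoh_of_isFP hfp
  obtain ⟨s, -, F, hFq, hFfp, ⟨e⟩⟩ := S4788.result (AlgLim.diag k A str) (AlgLim.cone k A str)
    (AlgLim.isLimitCone k A str) (op ∅) MA hfp
  let q : Spec (CommRingCat.of (AlgLim.sub k A s.unop)) ⟶ Spec (CommRingCat.of k) := AlgLim.str k A s
  have hw : (V.isoSpec.hom ≫ (AlgLim.specCone k A).π.app s) ≫ q = qV := by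
    rw [Category.assoc, AlgLim.str_cone]
    erw [halg]
    rw [Iso.hom_inv_id_assoc]
  let g : Over.mk qV ⟶ Over.mk q := Over.homMk (V.isoSpec.hom ≫ (AlgLim.specCone k A).π.app s) hw
  haveI : Algebra.FiniteType k (AlgLim.sub k A s.unop) :=
    (Subalgebra.fg_iff_finiteType _).1 (Subalgebra.fg_adjoin_finset _)
  haveI hqft : LocallyOfFiniteType q :=
    (HasRingHomProperty.Spec_iff (P := @LocallyOfFiniteType)).2 (RingHom.finiteType_algebraMap.2 inferInstance)
  refine ⟨_, q, F, g, hqft, inferInstance, ⟨hFq, QCoh.isFT_of_isFP hFfp⟩, ?_⟩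
  have hfac : PicF.XTmap str g = hh' ≫ (AlgLim.cone k A str).π.app s := by
    apply pullback.hom_ext
    · refine (pullback.lift_fst _ _ _).trans ?_
      refine Eq.trans ?_ (Category.assoc _ _ _).symm
      refine Eq.trans ?_ (congrArg (hh' ≫ ·) (pullback.lift_fst _ _ _).symm)
      exact (pullback.lift_fst _ _ _).symm
    · refine (pullback.lift_snd _ _ _).trans ?_
      refine Eq.trans ?_ (Category.assoc _ _ _).symm
      refine Eq.trans ?_ (congrArg (hh' ≫ ·) (pullback.lift_snd _ _ _).symm)
      refine Eq.trans ?_ (Category.assoc _ _ _)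
      refine Eq.trans ?_ (congrArg (· ≫ (AlgLim.specCone k A).π.app s) (pullback.lift_snd _ _ _).symm)
      exact (Category.assoc _ _ _).symm
  rw [hfac, ← PicClLib.pullCl_comp]
  have he : PicF.pullCl ((AlgLim.cone k A str).π.app s) (PicF.cl F) = PicF.pullCl hh (PicF.cl M) :=
    Quot.sound ⟨e⟩
  rw [he, PicClLib.pullCl_comp, hinv, PicClLib.pullCl_id]

end Groth.Agent.PicBnd
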