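import Groth.Agent.PicClLib.Basic
import Groth.Prelude.Def_Pic13
import Groth.Prelude.Def_PicRel2
import Mathlib.AlgebraicGeometry.AlgClosed.Basic

/-! Classes at rational points of a base. -/

set_option linter.style.haveILetI false
set_option backward.isDefEq.respectTransparency false
set_option backward.isDefEq.respectTransparency.types false

universe u

open CategoryTheory CategoryTheory.Limits AlgebraicGeometry

namespace Groth.Agent.PicBnd

variable {k : Type u} [Field k] {X : Scheme.{u}} [X.Over (Spec (CommRingCat.of k))]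

/-- The point. -/
noncomputable abbrev pt (k : Type u) [Field k] : Over (Spec (CommRingCat.of k)) := Over.mk (𝟙 _)

/-- The restriction of a module to the slice at a point, as a class over the point. -/
theorem pullCl_XTmap_point {T : Scheme.{u}} (q : T ⟶ Spec (CommRingCat.of k))
    (t : Spec (CommRingCat.of k) ⟶ T) (ht : t ≫ q = 𝟙 _) (M : (Pic13.prodK k X q).Modules) :
    PicF.pullCl (PicF.XTmap (X ↘ Spec (CommRingCat.of k))
        (Over.homMk t ht : pt k ⟶ Over.mk q)) (PicF.cl M) =
      PicF.pullCl (pullback.fst (X ↘ Spec (CommRingCat.of k)) (𝟙 (Spec (CommRingCat.of k))))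
        (PicF.cl (Pic13.fibreMod k X q t ht M)) := by
  show _ = PicF.pullCl _ (PicF.pullCl (Pic13.sliceAt k X q t ht) (PicF.cl M))
  rw [PicClLib.pullCl_comp]
  congr 1
  apply pullback.hom_ext
  · refine (pullback.lift_fst _ _ _).trans ?_
    refine Eq.trans ?_ (Category.assoc _ _ _).symm
    exact congrArg (pullback.fst (X ↘ Spec (CommRingCat.of k)) (𝟙 _) ≫ ·) (pullback.lift_fst _ _ _).symm
  · refine (pullback.lift_snd _ _ _).trans ?_
    refine Eq.trans ?_ (Category.assoc _ _ _).symm
    refine Eq.trans ?_ (congrArg (pullback.fst (X ↘ Spec (CommRingCat.of k)) (𝟙 _) ≫ ·) (pullback.lift_snd _ _ _).symm)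
    refine Eq.trans ?_ (Category.assoc _ _ _)
    exact congrArg (· ≫ t) (((pullback.condition (f := X ↘ Spec (CommRingCat.of k)) (g := 𝟙 _)).trans (Category.comp_id _)).symm)

theorem pullCl_fst_injective :
    Function.Injective (PicF.pullCl (pullback.fst (X ↘ Spec (CommRingCat.of k)) (𝟙 (Spec (CommRingCat.of k))))) := by
  intro c c' h
  haveI : IsIso (pullback.fst (X ↘ Spec (CommRingCat.of k)) (𝟙 (Spec (CommRingCat.of k)))) := inferInstance
  have h2 := congrArg (PicF.pullCl (inv (pullback.fst (X ↘ Spec (CommRingCat.of k)) (𝟙 (Spec (CommRingCat.of k)))))) h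
  rwa [PicClLib.pullCl_comp, PicClLib.pullCl_comp, IsIso.inv_hom_id, PicClLib.pullCl_id, PicClLib.pullCl_id] at h2

/-- An etale scheme over an algebraically closed field with a point has a rational point over it. -/
theorem exists_point [IsAlgClosed k] {Z : Scheme.{u}} (e : Z ⟶ Spec (CommRingCat.of k)) [LocallyOfFiniteType e]
    [Nonempty Z] : ∃ t : Spec (CommRingCat.of k) ⟶ Z, t ≫ e = 𝟙 _ := by
  haveI : JacobsonSpace Z := LocallyOfFiniteType.jacobsonSpace e
  obtain ⟨z, -, hz⟩ := nonempty_inter_closedPoints (Set.univ_nonempty (α := Z)) isOpen_univ.isLocallyClosed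
  exact ⟨_, ((pointEquivClosedPoint e).symm ⟨z, hz⟩).2⟩

/-- Over an algebraically closed field classes with the same image at the point agree. -/
theorem eq_of_phi_eq [IsAlgClosed k] {P : Over (Spec (CommRingCat.of k))}
    {φ : ∀ T : Over (Spec (CommRingCat.of k)), PicF.Cl (PicF.XT (X ↘ Spec (CommRingCat.of k)) T) → (T ⟶ P)}
    (hP : PicRel.IsRelPic (X ↘ Spec (CommRingCat.of k)) P φ) {c c' : PicF.Cl (PicF.XT (X ↘ Spec (CommRingCat.of k)) (pt k))}
    (hc : PicF.IsInvertibleCl c) (hc' : PicF.IsInvertibleCl c') (h : φ (pt k) c = φ (pt k) c') : c = c' := by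
  obtain ⟨ι, U, hcov, hU⟩ := hP.locallyInjective (pt k) c c' hc hc' h
  obtain ⟨i, y, -⟩ := hcov (IsLocalRing.closedPoint k)
  haveI : Nonempty (U i).left := ⟨y⟩
  haveI : Etale (U i).hom := (U i).prop
  haveI : LocallyOfFiniteType (U i).hom := inferInstance
  obtain ⟨t, ht⟩ := @exists_point k _ _ (U i).left (U i).hom inferInstance ⟨y⟩
  let s : pt k ⟶ PicRel.ovr (pt k) (U i) := Over.homMk t (by
    show t ≫ (U i).hom ≫ 𝟙 _ = 𝟙 _
    rw [Category.comp_id, ht])
  have hs : s ≫ PicRel.ovrHom (pt k) (U i) = 𝟙 _ := Over.OverMorphism.ext ht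
  have h1 := congrArg (PicF.pullCl (PicF.XTmap (X ↘ Spec (CommRingCat.of k)) s)) (hU i)
  rw [PicClLib.pullCl_comp, PicClLib.pullCl_comp, ← PicClLib.XTmap_comp, hs] at h1
  have e : PicF.XTmap (X ↘ Spec (CommRingCat.of k)) (𝟙 (pt k)) = 𝟙 _ := by
    apply pullback.hom_ext
    · rw [PicF.XTmap, pullback.map, pullback.lift_fst]
      exact (Category.comp_id _).trans (Category.id_comp _).symm
    · rw [PicF.XTmap, pullback.map, pullback.lift_snd]
      exact (Category.comp_id _).trans (Category.id_comp _).symm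
  rwa [e, PicClLib.pullCl_id, PicClLib.pullCl_id] at h1

end Groth.Agent.PicBnd
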